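import Cfsg.Agent.LSSL.Wt

/-!
Heisenberg data in a group and a lower bound for the degrees of complex representations.
-/

set_option autoImplicit false
set_option linter.unusedSectionVars false

namespace Cfsg.Agent.LSD

open Module Cfsg.Agent.H39 Cfsg.Agent.LSU Cfsg.Agent.LSSL

/-- Heisenberg data: centre `x`, section `e`, cocycle `β`, isotropic subspace `b`, highest weight vectors `γ` -/
structure Heis (G k A B ι : Type*) [Group G] [Field k] [AddCommGroup A] [Module k A] [AddCommGroup B] where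
  x : k → G
  e : A → G
  β : A → A → k
  b : B → A
  γ : ι → A
  x_add : ∀ s t, x (s + t) = x s * x t
  x_e : ∀ t z, x t * e z = e z * x t
  e_mul : ∀ z z', e z * e z' = e (z + z') * x (β z z')
  x_conj : ∀ c, c ≠ 0 → ∃ g, g * x 1 * g⁻¹ = x c
  nondeg : ∀ z, z ≠ 0 → ∀ t, ∃ z', β z' z = β z z' + t
  b_add : ∀ i j, b (i + j) = b i + b j
  b_ne : ∀ i, i ≠ 0 → b i ≠ 0
  b_beta : ∀ i j, β (b i) (b j) = 0
  γ_ne : ∀ i, γ i ≠ 0
  γ_conj : ∀ (i : ι) (c : k), c ≠ 0 → ∃ g d c', c' ≠ 0 ∧ g * (e (c • γ i) * x d) * g⁻¹ = x c'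
  hits : ∀ l : A →ₗ[k] k, ∃ i, l (γ i) = 0

variable {G k A B ι V : Type*} [Group G] [Field k] [Fintype k] [AddCommGroup A] [Module k A] [Fintype A]
  [AddCommGroup B] [Fintype B] [Fintype ι] [AddCommGroup V] [Module ℂ V]

namespace Heis

section grp
variable (H : Heis G k A B ι)

theorem x_zero : H.x 0 = 1 := by
  have h := H.x_add 0 0
  rw [add_zero] at h
  exact left_eq_mul.1 h

theorem b_zero : H.b 0 = 0 := by
  have h := H.b_add 0 0
  rw [add_zero] at h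
  exact left_eq_add.1 h

theorem e_zero : H.e 0 = 1 := by
  have h := H.e_mul 0 0
  have h1 : H.β 0 0 = 0 := by
    have := H.b_beta 0 0
    rwa [H.b_zero] at this
  rw [h1, add_zero, H.x_zero, mul_one] at h
  exact mul_eq_left.1 h

theorem conj_e {z : A} (hz : z ≠ 0) (t : k) : ∃ g, g * H.e z * g⁻¹ = H.e z * H.x t := by
  obtain ⟨z', h⟩ := H.nondeg z hz t
  refine ⟨H.e z', ?_⟩
  rw [mul_inv_eq_iff_eq_mul, H.e_mul, h, H.x_add, add_comm z' z, ← mul_assoc, ← H.e_mul, mul_assoc, mul_assoc, ← H.x_e]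

end grp

variable (H : Heis G k A B ι) (ρ : Representation ℂ G V)

theorem tr_conj (ρ : Representation ℂ G V) {g a c : G} (h : g * a * g⁻¹ = c) :
    LinearMap.trace ℂ V (ρ c) = LinearMap.trace ℂ V (ρ a) := by
  rw [← h, map_mul, LinearMap.trace_mul_comm, ← map_mul, ← mul_assoc, inv_mul_cancel, one_mul]

theorem tr_e {z : A} (hz : z ≠ 0) (t : k) :
    LinearMap.trace ℂ V (ρ (H.e z * H.x t)) = LinearMap.trace ℂ V (ρ (H.e z)) := by
  obtain ⟨g, hg⟩ := H.conj_e hz t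
  exact tr_conj ρ hg

theorem tr_x {c : k} (hc : c ≠ 0) : LinearMap.trace ℂ V (ρ (H.x c)) = LinearMap.trace ℂ V (ρ (H.x 1)) := by
  obtain ⟨g, hg⟩ := H.x_conj c hc
  exact tr_conj ρ hg

theorem tr_γ (i : ι) {c : k} (hc : c ≠ 0) :
    LinearMap.trace ℂ V (ρ (H.e (c • H.γ i))) = LinearMap.trace ℂ V (ρ (H.x 1)) := by
  obtain ⟨g, d, c', hc', hg⟩ := H.γ_conj i c hc
  rw [← H.tr_e ρ (smul_ne_zero hc (H.γ_ne i)) d, ← tr_conj ρ hg, H.tr_x ρ hc']

/-- the action of the centre -/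
noncomputable def Ux (c : k) : V →ₗ[ℂ] V := ρ (H.x c)

theorem Ux_add (a c : k) (v : V) : H.Ux ρ (a + c) v = H.Ux ρ a (H.Ux ρ c v) := by
  rw [Ux, H.x_add, map_mul]; rfl

theorem Ux_zero (v : V) : H.Ux ρ 0 v = v := by
  rw [Ux, H.x_zero, map_one]; rfl

/-- the projection to a weight space of the centre -/
noncomputable def P (χ : AddChar k ℂ) : V →ₗ[ℂ] V := PP (H.Ux ρ) χ

theorem P_def (χ : AddChar k ℂ) : H.P ρ χ = (Fintype.card k : ℂ)⁻¹ • ∑ c, χ (-c) • ρ (H.x c) := rfl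

theorem P_mul_P (χ : AddChar k ℂ) : H.P ρ χ * H.P ρ χ = H.P ρ χ := PP_PP (H.Ux_add ρ) χ

theorem x_mul_P (χ : AddChar k ℂ) (c : k) : ρ (H.x c) * H.P ρ χ = χ c • H.P ρ χ := by
  ext v
  exact PP_mem (H.Ux_add ρ) χ v c

theorem P_comm (χ : AddChar k ℂ) (z : A) : H.P ρ χ * ρ (H.e z) = ρ (H.e z) * H.P ρ χ := by
  rw [P_def, smul_mul_assoc, mul_smul_comm, Finset.sum_mul, Finset.mul_sum]
  congr 1
  refine Finset.sum_congr rfl fun c _ => ?_
  rw [smul_mul_assoc, mul_smul_comm, ← map_mul, ← map_mul, H.x_e]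

/-- the action of the section on a weight space of the centre -/
noncomputable def E (χ : AddChar k ℂ) (z : A) : V →ₗ[ℂ] V := ρ (H.e z) * H.P ρ χ

theorem E_mul (χ : AddChar k ℂ) (z z' : A) : H.E ρ χ z * H.E ρ χ z' = χ (H.β z z') • H.E ρ χ (z + z') := by
  rw [E, E, E, mul_assoc, ← mul_assoc (H.P ρ χ), P_comm, mul_assoc (ρ (H.e z')), P_mul_P, ← mul_assoc, ← map_mul,
    H.e_mul, map_mul, mul_assoc, x_mul_P, mul_smul_comm]

theorem E_zero (χ : AddChar k ℂ) : H.E ρ χ 0 = H.P ρ χ := by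
  rw [E, H.e_zero, map_one, one_mul]

theorem tr_E (χ : AddChar k ℂ) {z : A} (hz : z ≠ 0) :
    LinearMap.trace ℂ V (H.E ρ χ z) = if χ = 0 then LinearMap.trace ℂ V (ρ (H.e z)) else 0 := by
  classical
  rw [E, P_def, mul_smul_comm, Finset.mul_sum, map_smul, map_sum]
  have h1 : ∀ c : k, LinearMap.trace ℂ V (ρ (H.e z) * χ (-c) • ρ (H.x c)) =
      χ (-c) * LinearMap.trace ℂ V (ρ (H.e z)) := by
    intro c
    rw [mul_smul_comm, map_smul, ← map_mul, H.tr_e ρ hz, smul_eq_mul]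
  rw [Finset.sum_congr rfl fun c _ => h1 c, ← Finset.sum_mul]
  have h2 : ∑ c : k, χ (-c) = ∑ c : k, χ c := Equiv.sum_comp (Equiv.neg k) (fun c => χ c)
  rw [h2, AddChar.sum_eq_ite]
  split_ifs with h
  · rw [smul_eq_mul, ← mul_assoc, inv_mul_cancel₀ (cardA_ne k), one_mul]
  · rw [zero_mul, smul_zero]

variable [FiniteDimensional ℂ V]

theorem tr_P_zero : (Fintype.card k : ℂ) * LinearMap.trace ℂ V (H.P ρ 0) =
    finrank ℂ V + (Fintype.card k - 1) * LinearMap.trace ℂ V (ρ (H.x 1)) := by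
  classical
  rw [P_def, map_smul, map_sum, smul_eq_mul, ← mul_assoc, mul_inv_cancel₀ (cardA_ne k), one_mul,
    ← Finset.add_sum_erase _ _ (Finset.mem_univ (0 : k))]
  have h1 : ∀ c ∈ Finset.univ.erase (0 : k), LinearMap.trace ℂ V ((0 : AddChar k ℂ) (-c) • ρ (H.x c)) =
      LinearMap.trace ℂ V (ρ (H.x 1)) := by
    intro c hc
    rw [AddChar.zero_apply, one_smul, H.tr_x ρ (Finset.ne_of_mem_erase hc)]
  rw [Finset.sum_congr rfl h1, Finset.sum_const, Finset.card_erase_of_mem (Finset.mem_univ _), Finset.card_univ,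
    AddChar.zero_apply, one_smul, H.x_zero, map_one, LinearMap.trace_one, nsmul_eq_mul,
    Nat.cast_sub Fintype.card_pos, Nat.cast_one]

theorem tr_P_ne {χ : AddChar k ℂ} (hχ : χ ≠ 0) : (Fintype.card k : ℂ) * LinearMap.trace ℂ V (H.P ρ χ) =
    finrank ℂ V - LinearMap.trace ℂ V (ρ (H.x 1)) := by
  classical
  rw [P_def, map_smul, map_sum, smul_eq_mul, ← mul_assoc, mul_inv_cancel₀ (cardA_ne k), one_mul,
    ← Finset.add_sum_erase _ _ (Finset.mem_univ (0 : k))]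
  have h1 : ∀ c ∈ Finset.univ.erase (0 : k), LinearMap.trace ℂ V (χ (-c) • ρ (H.x c)) =
      χ (-c) * LinearMap.trace ℂ V (ρ (H.x 1)) := by
    intro c hc
    rw [map_smul, smul_eq_mul, H.tr_x ρ (Finset.ne_of_mem_erase hc)]
  rw [Finset.sum_congr rfl h1, ← Finset.sum_mul]
  have h2 : ∑ c : k, χ (-c) = 0 := by
    have h3 : ∑ c : k, χ (-c) = ∑ c : k, χ c := Equiv.sum_comp (Equiv.neg k) (fun c => χ c)
    rw [h3, AddChar.sum_eq_zero_of_ne_one (by rwa [AddChar.one_eq_zero])]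
  have h3 : ∑ c ∈ Finset.univ.erase (0 : k), χ (-c) = -1 := by
    have := Finset.add_sum_erase Finset.univ (fun c : k => χ (-c)) (Finset.mem_univ (0 : k))
    rw [h2, neg_zero, AddChar.map_zero_eq_one] at this
    linear_combination this
  rw [h3, neg_zero, AddChar.map_zero_eq_one, one_smul, H.x_zero, map_one, LinearMap.trace_one]
  ring

/-- the multiplicity -/
theorem exists_m {χ : AddChar k ℂ} (hχ : χ ≠ 0) : ∃ m : ℕ,
    LinearMap.trace ℂ V (H.P ρ χ) = (Fintype.card B : ℂ) * m := by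
  classical
  let F : B → (V →ₗ[ℂ] V) := fun i => H.E ρ χ (H.b i)
  have hF : ∀ i j v, F (i + j) v = F i (F j v) := by
    intro i j v
    change _ = (F i * F j) v
    simp only [F]
    rw [E_mul, H.b_beta, AddChar.map_zero_eq_one, one_smul, H.b_add]
  refine ⟨finrank ℂ (wt F 0), ?_⟩
  rw [← trace_PP hF]
  have h1 : PP F 0 = (Fintype.card B : ℂ)⁻¹ • ∑ i, (0 : AddChar B ℂ) (-i) • F i := rfl
  rw [h1, map_smul, map_sum, smul_eq_mul, ← mul_assoc, mul_inv_cancel₀ (cardA_ne B), one_mul,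
    Finset.sum_eq_single (0 : B)]
  · simp only [F]
    rw [H.b_zero, E_zero, AddChar.zero_apply, one_smul]
  · intro i _ hi
    simp only [F]
    rw [AddChar.zero_apply, one_smul, H.tr_E ρ χ (H.b_ne i hi), if_neg hχ]
  · simp

theorem E0_add (z z' : A) (v : V) : H.E ρ 0 (z + z') v = H.E ρ 0 z (H.E ρ 0 z' v) := by
  change _ = (H.E ρ 0 z * H.E ρ 0 z') v
  rw [E_mul, AddChar.zero_apply, one_smul]

/-- the action of a highest weight line on the fixed space of the centre -/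
noncomputable def Fγ (i : ι) (c : k) : V →ₗ[ℂ] V := H.E ρ 0 (c • H.γ i)

theorem Fγ_add (i : ι) (c d : k) (v : V) : H.Fγ ρ i (c + d) v = H.Fγ ρ i c (H.Fγ ρ i d v) := by
  rw [Fγ, add_smul, E0_add]; rfl

theorem tr_Fγ (i : ι) : (Fintype.card k : ℂ) * finrank ℂ (wt (H.Fγ ρ i) 0) =
    LinearMap.trace ℂ V (H.P ρ 0) + (Fintype.card k - 1) * LinearMap.trace ℂ V (ρ (H.x 1)) := by
  classical
  rw [← trace_PP (H.Fγ_add ρ i)]
  have h1 : PP (H.Fγ ρ i) 0 = (Fintype.card k : ℂ)⁻¹ • ∑ c, (0 : AddChar k ℂ) (-c) • H.Fγ ρ i c := rfl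
  rw [h1, map_smul, map_sum, smul_eq_mul, ← mul_assoc, mul_inv_cancel₀ (cardA_ne k), one_mul,
    ← Finset.add_sum_erase _ _ (Finset.mem_univ (0 : k))]
  have h2 : ∀ c ∈ Finset.univ.erase (0 : k), LinearMap.trace ℂ V ((0 : AddChar k ℂ) (-c) • H.Fγ ρ i c) =
      LinearMap.trace ℂ V (ρ (H.x 1)) := by
    intro c hc
    have hc0 := Finset.ne_of_mem_erase hc
    rw [AddChar.zero_apply, one_smul, Fγ, H.tr_E ρ 0 (smul_ne_zero hc0 (H.γ_ne i)), if_pos rfl, H.tr_γ ρ i hc0]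
  rw [Finset.sum_congr rfl h2, Finset.sum_const, Finset.card_erase_of_mem (Finset.mem_univ _), Finset.card_univ,
    AddChar.zero_apply, one_smul, Fγ, zero_smul, E_zero, nsmul_eq_mul, Nat.cast_sub Fintype.card_pos, Nat.cast_one]

theorem finrank_iSup_le {ι : Type*} [Fintype ι] (W : ι → Submodule ℂ V) :
    finrank ℂ (⨆ i, W i : Submodule ℂ V) ≤ ∑ i, finrank ℂ (W i) := by
  classical
  have h : ∀ s : Finset ι, finrank ℂ (s.sup W : Submodule ℂ V) ≤ ∑ i ∈ s, finrank ℂ (W i) := by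
    intro s
    induction s using Finset.induction_on with
    | empty => simp
    | insert a s ha ih =>
      rw [Finset.sup_insert, Finset.sum_insert ha]
      exact (Submodule.finrank_add_le_finrank_add_finrank _ _).trans (Nat.add_le_add_left ih _)
  have := h Finset.univ
  rwa [Finset.sup_univ_eq_iSup] at this

theorem wt_le (hψ : ∃ ψ : AddChar k ℂ, ψ ≠ 0) : wt (H.Ux ρ) 0 ≤ ⨆ i, wt (H.Fγ ρ i) 0 := by
  classical
  obtain ⟨ψ, hψ⟩ := hψ
  intro v hv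
  have hv1 : H.P ρ 0 v = v := PP_of_mem hv
  have h1 : ∑ χ : AddChar A ℂ, PP (H.E ρ 0) χ v = v := by
    have h2 : ∑ χ : AddChar A ℂ, wtProj (H.E ρ 0) χ v = (Fintype.card A : ℂ) • v := by
      simp only [wtProj, LinearMap.sum_apply, LinearMap.smul_apply]
      rw [Finset.sum_comm]
      simp only [← Finset.sum_smul, AddChar.sum_apply_eq_ite]
      rw [Finset.sum_eq_single (0 : A)]
      · rw [E_zero, hv1]; simp
      · intro a _ ha
        rw [if_neg (by simpa using ha), zero_smul]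
      · simp
    simp only [PP, LinearMap.smul_apply]
    rw [← Finset.smul_sum, h2, smul_smul, inv_mul_cancel₀ (cardA_ne A), one_smul]
  rw [← h1]
  refine Submodule.sum_mem _ fun χ _ => ?_
  obtain ⟨l, hl⟩ := exists_linear hψ χ
  obtain ⟨i, hi⟩ := H.hits l
  refine Submodule.mem_iSup_of_mem i ?_
  have h3 := PP_mem (H.E0_add ρ) χ v
  rw [mem_wt_zero]
  intro c
  rw [Fγ, h3 (c • H.γ i), hl, map_smul, hi, smul_zero, AddChar.map_zero_eq_one, one_smul]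

theorem main (hψ : ∃ ψ : AddChar k ℂ, ψ ≠ 0) {q : ℕ} (hk : Fintype.card k = q) (hB : Fintype.card B = q ^ 4)
    (hι : Fintype.card ι = q ^ 3 + 1) (hx : ∃ c, ρ (H.x c) ≠ 1) :
    (q - 1) * (q ^ 4 + q ^ 3 + 1) ≤ finrank ℂ V := by
  classical
  have hq1 : 1 ≤ q := by rw [← hk]; exact Fintype.card_pos
  have hq0 : (q : ℂ) ≠ 0 := by
    have : q ≠ 0 := by omega
    exact_mod_cast this
  obtain ⟨ψ, hψ0⟩ := hψ
  obtain ⟨m, hm⟩ := H.exists_m ρ hψ0
  have h1 := H.tr_P_ne ρ hψ0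
  have h2 := H.tr_P_zero ρ
  rw [hm, hk, hB] at h1
  rw [hk] at h2
  set τ := LinearMap.trace ℂ V (ρ (H.x 1)) with hτ
  have hPM : LinearMap.trace ℂ V (H.P ρ 0) = finrank ℂ (wt (H.Ux ρ) 0) := trace_PP (H.Ux_add ρ) 0
  have h3 : ∀ i, (q : ℂ) * finrank ℂ (wt (H.Fγ ρ i) 0) = LinearMap.trace ℂ V (H.P ρ 0) + (q - 1) * τ := by
    intro i
    have := H.tr_Fγ ρ i
    rwa [hk] at this
  rw [hPM] at h2 h3
  set M := finrank ℂ (wt (H.Ux ρ) 0) with hM
  set D := finrank ℂ V with hD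
  push_cast at h1
  have hτ1 : τ = D - q ^ 5 * m := by linear_combination h1
  have hMD : (M : ℂ) + (q - 1) * q ^ 4 * m = D := by
    have : (q : ℂ) * ((M : ℂ) + (q - 1) * q ^ 4 * m) = q * D := by
      rw [mul_add, h2, hτ1]; ring
    exact mul_left_cancel₀ hq0 this
  have hMg : ∀ i, (finrank ℂ (wt (H.Fγ ρ i) 0) : ℂ) + (q - 1) * q ^ 3 * m = M := by
    intro i
    have : (q : ℂ) * ((finrank ℂ (wt (H.Fγ ρ i) 0) : ℂ) + (q - 1) * q ^ 3 * m) = q * M := by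
      rw [mul_add, h3, hτ1, ← hMD]; ring
    exact mul_left_cancel₀ hq0 this
  obtain ⟨r, rfl⟩ : ∃ r, q = r + 1 := ⟨q - 1, by omega⟩
  have hMD' : M + r * (r + 1) ^ 4 * m = D := by
    have : (M : ℂ) + r * (r + 1) ^ 4 * m = D := by
      rw [← hMD]; push_cast; ring
    exact_mod_cast this
  have hMg' : ∀ i, finrank ℂ (wt (H.Fγ ρ i) 0) + r * (r + 1) ^ 3 * m = M := by
    intro i
    have : (finrank ℂ (wt (H.Fγ ρ i) 0) : ℂ) + r * (r + 1) ^ 3 * m = M := by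
      rw [← hMg i]; push_cast; ring
    exact_mod_cast this
  have hm1 : 1 ≤ m := by
    by_contra hcon
    have hm0 : m = 0 := by omega
    rw [hm0, mul_zero, add_zero] at hMD'
    obtain ⟨c, hc⟩ := hx
    apply hc
    have htop : wt (H.Ux ρ) 0 = ⊤ := Submodule.eq_top_of_finrank_eq hMD'
    ext v
    have hv : v ∈ wt (H.Ux ρ) 0 := by rw [htop]; trivial
    rw [mem_wt_zero] at hv
    exact hv c
  have hsum : M ≤ ∑ i, finrank ℂ (wt (H.Fγ ρ i) 0) :=
    (Submodule.finrank_mono (H.wt_le ρ ⟨ψ, hψ0⟩)).trans (finrank_iSup_le _)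
  have hsum2 : ∑ i : ι, (finrank ℂ (wt (H.Fγ ρ i) 0) + r * (r + 1) ^ 3 * m) = ((r + 1) ^ 3 + 1) * M := by
    rw [Finset.sum_congr rfl fun i _ => hMg' i, Finset.sum_const, Finset.card_univ, hι, smul_eq_mul]
  rw [Finset.sum_add_distrib, Finset.sum_const, Finset.card_univ, hι, smul_eq_mul] at hsum2
  have h5 : ((r + 1) ^ 3 + 1) * (r * (r + 1) ^ 3 * m) + M ≤ ((r + 1) ^ 3 + 1) * M := by
    rw [← hsum2]; omega
  have h6 : (r + 1) ^ 3 * (((r + 1) ^ 3 + 1) * (r * m)) ≤ (r + 1) ^ 3 * M := by nlinarith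
  have h7 : ((r + 1) ^ 3 + 1) * (r * m) ≤ M := Nat.le_of_mul_le_mul_left h6 (by positivity)
  rw [Nat.add_sub_cancel]
  calc r * ((r + 1) ^ 4 + (r + 1) ^ 3 + 1) ≤ r * ((r + 1) ^ 4 + (r + 1) ^ 3 + 1) * m := Nat.le_mul_of_pos_right _ hm1
    _ = ((r + 1) ^ 3 + 1) * (r * m) + r * (r + 1) ^ 4 * m := by ring
    _ ≤ M + r * (r + 1) ^ 4 * m := Nat.add_le_add_right h7 _
    _ = D := hMD'

end Heis

end Cfsg.Agent.LSD
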