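import Mathlib

/-!
Nontrivial zeros of cubic forms, by the Chevalley–Warning theorem.
-/

set_option autoImplicit false
set_option linter.unusedSectionVars false

namespace Cfsg.Agent.LSD

open Module MvPolynomial

theorem lin_sum {k W : Type*} [Field k] [AddCommGroup W] [Module k W] {f : W → k} (hf : IsLinearMap k f) {n : ℕ}
    (x : Fin n → k) (b : Fin n → W) : f (∑ i, x i • b i) = ∑ i, x i * f (b i) := by
  have h : hf.mk' f (∑ i, x i • b i) = ∑ i, hf.mk' f (x i • b i) := map_sum _ _ _
  rw [IsLinearMap.mk'_apply] at h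
  rw [h]
  exact Finset.sum_congr rfl fun i _ => hf.map_smul _ _

theorem exists_zero {k W : Type*} [Field k] [Finite k] [AddCommGroup W] [Module k W] [FiniteDimensional k W]
    (hd : 3 < finrank k W) (T : W → W → W → k)
    (h1 : ∀ b c, IsLinearMap k fun a => T a b c) (h2 : ∀ a c, IsLinearMap k fun b => T a b c)
    (h3 : ∀ a b, IsLinearMap k fun c => T a b c) : ∃ w, w ≠ 0 ∧ T w w w = 0 := by
  classical
  have := Fintype.ofFinite k
  let b := Module.finBasis k W
  let f : MvPolynomial (Fin (finrank k W)) k :=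
    ∑ i, ∑ j, ∑ l, C (T (b i) (b j) (b l)) * (MvPolynomial.X i * MvPolynomial.X j * MvPolynomial.X l)
  obtain ⟨p, hp⟩ := CharP.exists k
  have hpp : p.Prime := CharP.char_is_prime k p
  have hdeg : f.totalDegree ≤ 3 := by
    refine totalDegree_finsetSum_le fun i _ => totalDegree_finsetSum_le fun j _ => totalDegree_finsetSum_le fun l _ => ?_
    refine (totalDegree_mul _ _).trans ?_
    rw [totalDegree_C, zero_add]
    refine (totalDegree_mul _ _).trans ?_
    have := totalDegree_mul (MvPolynomial.X i : MvPolynomial (Fin (finrank k W)) k) (MvPolynomial.X j)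
    simp only [totalDegree_X] at this ⊢
    omega
  have hlin1 : ∀ (x : Fin (finrank k W) → k) (c d : W), T (∑ i, x i • b i) c d = ∑ i, x i * T (b i) c d := by
    intro x c d
    exact lin_sum (h1 c d) x b
  have hlin2 : ∀ (x : Fin (finrank k W) → k) (c d : W), T c (∑ i, x i • b i) d = ∑ i, x i * T c (b i) d := by
    intro x c d
    exact lin_sum (h2 c d) x b
  have hlin3 : ∀ (x : Fin (finrank k W) → k) (c d : W), T c d (∑ i, x i • b i) = ∑ i, x i * T c d (b i) := by
    intro x c d
    exact lin_sum (h3 c d) x b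
  have heval : ∀ x : Fin (finrank k W) → k, eval x f = T (∑ i, x i • b i) (∑ i, x i • b i) (∑ i, x i • b i) := by
    intro x
    rw [hlin1]
    simp only [f, map_sum, map_mul, eval_C, eval_X]
    refine Finset.sum_congr rfl fun i _ => ?_
    rw [hlin2, Finset.mul_sum]
    refine Finset.sum_congr rfl fun j _ => ?_
    rw [hlin3, Finset.mul_sum, Finset.mul_sum]
    refine Finset.sum_congr rfl fun l _ => ?_
    ring
  have hdvd := char_dvd_card_solutions p (f := f) (by rw [Fintype.card_fin]; omega)
  have h0 : eval (0 : Fin (finrank k W) → k) f = 0 := by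
    rw [heval]
    simp only [Pi.zero_apply, zero_smul, Finset.sum_const_zero]
    exact (h1 0 0).map_zero
  have hpos : 0 < Fintype.card {x : Fin (finrank k W) → k // eval x f = 0} := Fintype.card_pos_iff.2 ⟨⟨0, h0⟩⟩
  have h2le : 1 < Fintype.card {x : Fin (finrank k W) → k // eval x f = 0} :=
    lt_of_lt_of_le hpp.one_lt (Nat.le_of_dvd hpos hdvd)
  obtain ⟨⟨x, hx⟩, hne⟩ := Fintype.exists_ne_of_one_lt_card h2le ⟨0, h0⟩
  refine ⟨∑ i, x i • b i, fun h => hne ?_, by rw [← heval]; exact hx⟩
  apply Subtype.ext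
  funext i
  exact Fintype.linearIndependent_iff.1 b.linearIndependent x h i

end Cfsg.Agent.LSD
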