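import Cfsg.Agent.LSD.HList
import Cfsg.Agent.Tw3.SimpD4

/-!
The Heisenberg subgroup of the triality twisted group.
-/

set_option autoImplicit false
set_option maxRecDepth 100000
set_option linter.unusedSectionVars false

namespace Cfsg.Agent.LSD

open Cfsg.Lie Cfsg.Agent.Chev Cfsg.Agent.ChevGrp Cfsg.Agent.ChevGrp.DData Cfsg.Agent.ChevWeyl Cfsg.Agent.ChevTw
  Cfsg.Agent.Tw3

/-- the roots of the Heisenberg subgroup -/
def L8 : List ℕ := [14, 15, 16, 19, 17, 20, 21, 22]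

/-- the cocycle coefficients -/
def c8 (s r : ℕ) : ℤ := if s = 14 ∧ r = 22 then -1 else if s = 15 ∧ r = 21 then 1 else if s = 16 ∧ r = 20 then 1
  else if s = 19 ∧ r = 17 then 1 else 0

theorem tab1 : L8.Pairwise fun s r => s < 24 ∧ r < 24 ∧ r ≠ s ∧ r ≠ chevD4.neg s ∧
    ((chevD4.commTerms s r = [] ∧ c8 s r = 0) ∨ chevD4.commTerms s r = [(23, -c8 s r, 1, 1)]) := by decide +kernel

theorem tab2 : ∀ r ∈ L8, r < 24 ∧ r ≠ 23 ∧ r ≠ chevD4.neg 23 ∧ chevD4.commTerms 23 r = [] := by decide +kernel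

theorem tab3 : chevD4.commTerms 18 14 = [(19, -1, 1, 1)] ∧ chevD4.commTerms 13 14 = [(16, 1, 1, 1)] ∧
    chevD4.commTerms 13 19 = [(21, 1, 1, 1)] ∧ chevD4.commTerms 12 14 = [(15, 1, 1, 1)] := by decide +kernel

theorem tab3' : chevD4.commTerms 12 16 = [(17, 1, 1, 1)] ∧ chevD4.commTerms 12 19 = [(20, 1, 1, 1)] ∧
    chevD4.commTerms 12 21 = [(22, 1, 1, 1)] ∧ chevD4.commTerms 19 17 = [(23, -1, 1, 1)] := by decide +kernel

theorem tab4 : ∀ p ∈ [(18, 14), (13, 14), (13, 19), (12, 14), (12, 16), (12, 19), (12, 21), (19, 17)],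
    p.1 < 24 ∧ p.2 < 24 ∧ p.2 ≠ p.1 ∧ p.2 ≠ chevD4.neg p.1 := by decide +kernel

theorem tab5 : (wv gpD4_1 14 = 14 ∧ wv gpD4_1 15 = 19 ∧ wv gpD4_1 16 = 15 ∧ wv gpD4_1 19 = 16) ∧
    (gs gpD4_1 14 = 1 ∧ gs gpD4_1 15 = -1 ∧ gs gpD4_1 16 = 1 ∧ gs gpD4_1 19 = -1) ∧
    (wv gpD4_1 23 = 23 ∧ gs gpD4_1 23 = 1) ∧ (wv gpD4_1 22 = 22 ∧ gs gpD4_1 22 = 1) := by decide +kernel

theorem tab6 : cD4 14 = 6 ∧ cD4 15 = 8 ∧ cD4 16 = 8 ∧ cD4 19 = 8 ∧ cD4 22 = 10 ∧ cD4 23 = 11 := by decide +kernel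

theorem tab7 : ∀ p ∈ [(15, 16), (15, 19), (16, 19), (19, 20), (19, 21), (20, 21), (16, 17)],
    p.1 < 24 ∧ p.2 < 24 ∧ p.2 ≠ p.1 ∧ p.2 ≠ chevD4.neg p.1 ∧ chevD4.commTerms p.1 p.2 = [] := by decide +kernel

theorem tab8 : jwD4 0 14 = 22 ∧ jwD4 1 22 = 23 ∧ chevD4.cartan 1 23 = 1 := by decide +kernel

variable {K : Type*} [Field K] (φ : K ≃+* K)

/-- root elements -/
noncomputable def X (r : ℕ) (t : K) : ↥(chevD4.group K) := xG goodD4.toGood2 r t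

theorem X_add {r : ℕ} (hr : r < 24) (t u : K) : X r (t + u) = X r t * X r u := xG_add goodD4.toGood2 hr t u

theorem X_zero {r : ℕ} (hr : r < 24) : X r (0 : K) = 1 := by
  have := X_add hr (0 : K) 0
  rw [add_zero] at this
  exact left_eq_mul.1 this

theorem X_neg {r : ℕ} (hr : r < 24) (t : K) : X r (-t) = (X r t)⁻¹ := by
  rw [eq_inv_iff_mul_eq_one, ← X_add hr, neg_add_cancel, X_zero hr]

theorem X_comm {r s : ℕ} (h : r < 24 ∧ s < 24 ∧ s ≠ r ∧ s ≠ chevD4.neg r ∧ chevD4.commTerms r s = []) (t u : K) :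
    X r t * X s u = X s u * X r t := xG_comm goodD4 h.1 h.2.1 h.2.2.1 h.2.2.2.1 h.2.2.2.2 t u

theorem X_comm' {r s a : ℕ} {ε : ℤ} (h : r < 24 ∧ s < 24 ∧ s ≠ r ∧ s ≠ chevD4.neg r)
    (h' : chevD4.commTerms r s = [(a, ε, 1, 1)]) (t u : K) :
    X s u * X r t = X r t * X s u * X a ((ε : K) * -t * u) := comm_eq goodD4 h.1 h.2.1 h.2.2.1 h.2.2.2 h' t u

theorem X_center {r : ℕ} (hr : r ∈ L8) (t u : K) : X 23 t * X r u = X r u * X 23 t := by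
  obtain ⟨h1, h2, h3, h4⟩ := tab2 r hr
  exact X_comm ⟨by norm_num, h1, h2, h3, h4⟩ t u

theorem X_pair : L8.Pairwise fun s r => ∀ t u : K, X r u * X s t = X s t * X r u * X 23 ((c8 s r : K) * (t * u)) := by
  refine tab1.imp fun {s r} h t u => ?_
  obtain ⟨h1, h2, h3, h4, h5⟩ := h
  rcases h5 with ⟨h5, h6⟩ | h5
  · rw [h6, Int.cast_zero, zero_mul, X_zero (by norm_num), mul_one]
    exact (X_comm ⟨h1, h2, h3, h4, h5⟩ t u).symm
  · rw [X_comm' ⟨h1, h2, h3, h4⟩ h5]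
    congr 2
    push_cast; ring

/-- the coordinates -/
def av (u s v w : K) : ℕ → K
  | 14 => u
  | 15 => -φ (φ s)
  | 16 => -φ s
  | 19 => s
  | 17 => v
  | 20 => -φ v
  | 21 => -φ (φ v)
  | _ => w

/-- elements of the Heisenberg group -/
noncomputable def ee (u s v w : K) : ↥(chevD4.group K) := pl X L8 (av φ u s v w)

theorem ee_eq (u s v w : K) : ee φ u s v w =
    X 14 u * (X 15 (-φ (φ s)) * (X 16 (-φ s) * (X 19 s * (X 17 v * (X 20 (-φ v) * (X 21 (-φ (φ v)) * X 22 w)))))) := by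
  simp [ee, pl, L8, av]

theorem av_add (u s v w u' s' v' w' : K) (r : ℕ) : av φ u s v w r + av φ u' s' v' w' r =
    av φ (u + u') (s + s') (v + v') (w + w') r := by
  unfold av
  split <;> simp only [map_add, neg_add]

theorem cc_av (u s v w u' s' v' w' : K) : cc c8 L8 (av φ u s v w) (av φ u' s' v' w') =
    s' * v + φ (s' * v) + φ (φ (s' * v)) - u' * w := by
  simp only [cc, dd, L8, av, c8, List.map_cons, List.map_nil, List.sum_cons, List.sum_nil]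
  norm_num
  ring

theorem ee_mul (u s v w u' s' v' w' : K) : ee φ u s v w * ee φ u' s' v' w' =
    ee φ (u + u') (s + s') (v + v') (w + w') * X 23 (s' * v + φ (s' * v) + φ (φ (s' * v)) - u' * w) := by
  have h1 : (fun r => av φ u s v w r + av φ u' s' v' w' r) = av φ (u + u') (s + s') (v + v') (w + w') :=
    funext fun r => av_add φ u s v w u' s' v' w' r
  have h2 := pl_mul_pl (X := X) (z := 23) (c := c8) (L := L8) (a := av φ u s v w) (b := av φ u' s' v' w')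
    (X_add (by norm_num)) (fun r hr => X_add (tab2 r hr).1) (fun r hr => X_center hr) X_pair
  rw [cc_av, h1] at h2
  exact h2

theorem ee_center (t u s v w : K) : X 23 t * ee φ u s v w = ee φ u s v w * X 23 t := by
  have h : ∀ M : List ℕ, (∀ r ∈ M, r ∈ L8) → ∀ a : ℕ → K, X 23 t * pl X M a = pl X M a * X 23 t := by
    intro M
    induction M with
    | nil => intro _ a; simp [pl]
    | cons r M ih =>
      intro hM a
      have h1 : pl X (r :: M) a = X r (a r) * pl X M a := by simp [pl]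
      rw [h1, ← mul_assoc, X_center (hM r List.mem_cons_self), mul_assoc, ih (fun r hr => hM r (List.mem_cons_of_mem _ hr)),
        mul_assoc]
  exact h L8 (fun r hr => hr) _

/-! membership -/

theorem X_mem_cls {r : ℕ} (hr : r < 24) {A : ℕ} (hA : A < 12) (h : cD4 r = A) (t : K) :
    X r t ∈ gen (amb goodD4 dD4 K).R.X (fun s => (tD4 φ).cls s = (⟨A, hA⟩ : Fin chevG2.nroots)) := by
  have h5 : X r t ∈ (amb goodD4 dD4 K).R.X (⟨r, hr⟩ : Fin chevD4.nroots) := (amb goodD4 dD4 K).x_mem _ _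
  have h6 : (tD4 φ).cls (⟨r, hr⟩ : Fin chevD4.nroots) = (⟨A, hA⟩ : Fin chevG2.nroots) := Fin.ext h
  exact mem_gen (P := fun s => (tD4 φ).cls s = (⟨A, hA⟩ : Fin chevG2.nroots)) h6 h5

theorem sg_X {r : ℕ} (hr : r < 24) (t : K) : (tD4 φ).σ (X r t) = X (wv gpD4_1 r) (((gs gpD4_1 r : ℤ) : K) * φ t) :=
  sgm_xG goodD4 _ _ _ φ (D := chevD4) hr t

theorem mem_G1 {A : ℕ} (hA : A < 12) {g : ↥(chevD4.group K)}
    (h1 : g ∈ gen (amb goodD4 dD4 K).R.X (fun s => (tD4 φ).cls s = (⟨A, hA⟩ : Fin chevG2.nroots)))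
    (h2 : (tD4 φ).σ g = g) : g ∈ (tD4 φ).G1 :=
  TwData.X'_le_G1 _ (((tD4 φ).mem_X' (A := (⟨A, hA⟩ : Fin chevG2.nroots))).2 ⟨h1, h2⟩)

theorem X14_mem {u : K} (hu : φ u = u) : X 14 u ∈ (tD4 φ).G1 := by
  obtain ⟨⟨a1, a2, a3, a4⟩, ⟨b1, b2, b3, b4⟩, ⟨d1, d2⟩, e1, e2⟩ := tab5
  refine mem_G1 φ (A := 6) (by norm_num) (X_mem_cls φ (by norm_num) _ tab6.1 _) ?_
  rw [sg_X φ (by norm_num), a1, b1, hu]; simp

theorem X22_mem {u : K} (hu : φ u = u) : X 22 u ∈ (tD4 φ).G1 := by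
  obtain ⟨⟨a1, a2, a3, a4⟩, ⟨b1, b2, b3, b4⟩, ⟨d1, d2⟩, e1, e2⟩ := tab5
  refine mem_G1 φ (A := 10) (by norm_num) (X_mem_cls φ (by norm_num) _ tab6.2.2.2.2.1 _) ?_
  rw [sg_X φ (by norm_num), e1, e2, hu]; simp

theorem X23_mem {u : K} (hu : φ u = u) : X 23 u ∈ (tD4 φ).G1 := by
  obtain ⟨⟨a1, a2, a3, a4⟩, ⟨b1, b2, b3, b4⟩, ⟨d1, d2⟩, e1, e2⟩ := tab5
  refine mem_G1 φ (A := 11) (by norm_num) (X_mem_cls φ (by norm_num) _ tab6.2.2.2.2.2 _) ?_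
  rw [sg_X φ (by norm_num), d1, d2, hu]; simp

theorem y8_mem (h3 : ∀ t, φ (φ (φ t)) = t) (s : K) : X 15 (-φ (φ s)) * (X 16 (-φ s) * X 19 s) ∈ (tD4 φ).G1 := by
  obtain ⟨⟨a1, a2, a3, a4⟩, ⟨b1, b2, b3, b4⟩, ⟨d1, d2⟩, e1, e2⟩ := tab5
  refine mem_G1 φ (A := 8) (by norm_num) (mul_mem (X_mem_cls φ (by norm_num) _ tab6.2.1 _)
    (mul_mem (X_mem_cls φ (by norm_num) _ tab6.2.2.1 _) (X_mem_cls φ (by norm_num) _ tab6.2.2.2.1 _))) ?_
  rw [map_mul, map_mul, sg_X φ (by norm_num), sg_X φ (by norm_num), sg_X φ (by norm_num), a2, a3, a4, b2, b3, b4]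
  simp only [Int.cast_neg, Int.cast_one, neg_mul, one_mul, map_neg, h3, _root_.neg_neg]
  have c1 := X_comm (tab7 (15, 19) (by simp)) (-φ (φ s)) s
  have c2 := X_comm (tab7 (16, 19) (by simp)) (-φ s) s
  rw [← mul_assoc, ← c1, mul_assoc, ← c2]

theorem y9_mem' (h3 : ∀ t, φ (φ (φ t)) = t) (v : K) : X 17 v * (X 20 (-φ v) * X 21 (-φ (φ v))) ∈ (tD4 φ).G1 :=
  y9_mem goodD4 dD4 dG2 φ h3 v

theorem ee_mem (h3 : ∀ t, φ (φ (φ t)) = t) {u w : K} (s v : K) (hu : φ u = u) (hw : φ w = w) :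
    ee φ u s v w ∈ (tD4 φ).G1 := by
  have h : ee φ u s v w = X 14 u * ((X 15 (-φ (φ s)) * (X 16 (-φ s) * X 19 s)) *
      ((X 17 v * (X 20 (-φ v) * X 21 (-φ (φ v)))) * X 22 w)) := by
    rw [ee_eq]; simp only [mul_assoc]
  rw [h]
  exact mul_mem (X14_mem φ hu) (mul_mem (y8_mem φ h3 s) (mul_mem (y9_mem' φ h3 v) (X22_mem φ hw)))

/-! conjugation -/

theorem conj_torus {c : K} (hc : c ≠ 0) (hφ : φ c = c) : ∃ g ∈ (tD4 φ).G1, g * X 23 1 * g⁻¹ = X 23 c := by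
  refine ⟨(bdD4 goodD4 dD4 dG2 φ).hb j1 (Units.mk0 c hc), (bdD4 goodD4 dD4 dG2 φ).hb_mem_G1 j1
    ((fx1 goodD4 dD4 dG2 φ _).2 hφ), ?_⟩
  have h := (bdD4 goodD4 dD4 dG2 φ).hb_conj j1 (Units.mk0 c hc) (⟨23, by decide⟩ : Fin chevD4.nroots) 1
  rw [chb_j1] at h
  have h2 : chevD4.cartan 1 ((⟨23, by decide⟩ : Fin chevD4.nroots) : ℕ) = 1 := tab8.2.2
  rw [h2, zpow_one, mul_one] at h
  exact h

theorem conj_w (j : Fin chevG2.rank) {r s : ℕ} (hr : r < 24) (hs : s < 24) (h : jwD4 j r = s) {c : K} (hc : c ≠ 0) :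
    ∃ c', c' ≠ 0 ∧ (tD4 φ).nj j * X r c * ((tD4 φ).nj j)⁻¹ = X s c' := by
  have h1 := ((tD4 φ).act_nj j).conj (s := (⟨r, hr⟩ : Fin chevD4.nroots)) (x := X r c)
    ((amb goodD4 dD4 K).x_mem (⟨r, hr⟩ : Fin chevD4.nroots) c)
  have h2 : (tD4 φ).Jw j (⟨r, hr⟩ : Fin chevD4.nroots) = (⟨s, hs⟩ : Fin chevD4.nroots) := by
    apply Fin.ext
    have := wdD4_val dD4 j (⟨r, hr⟩ : Fin chevD4.nroots)
    rw [h] at this
    exact this
  rw [h2] at h1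
  obtain ⟨c', hc'⟩ := ((amb goodD4 dD4 K).mem_X _ _).1 h1
  have hc'' : X s c' = (tD4 φ).nj j * X r c * ((tD4 φ).nj j)⁻¹ := hc'
  refine ⟨c', ?_, hc''.symm⟩
  rintro rfl
  rw [X_zero hs] at hc''
  have h4 : X r c = 1 := by
    have : X r c = ((tD4 φ).nj j)⁻¹ * ((tD4 φ).nj j * X r c * ((tD4 φ).nj j)⁻¹) * (tD4 φ).nj j := by group
    rw [this, ← hc'']; group
  exact hc ((amb goodD4 dD4 K).x_inj (⟨r, hr⟩ : Fin chevD4.nroots) c h4)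

theorem fix_of_mem {c : K} (h : X 23 c ∈ (tD4 φ).G1) : φ c = c := by
  have h1 : (tD4 φ).σ (X 23 c) = X 23 c := (tD4 φ).G1_le_Fx h
  obtain ⟨⟨a1, a2, a3, a4⟩, ⟨b1, b2, b3, b4⟩, ⟨d1, d2⟩, e1, e2⟩ := tab5
  rw [sg_X φ (by norm_num), d1, d2, Int.cast_one, one_mul] at h1
  exact ((amb goodD4 dD4 K).x_eq_iff (⟨23, by decide⟩ : Fin chevD4.nroots) _ _).1 h1

theorem conj22 {c : K} (hc : c ≠ 0) (hφ : φ c = c) :
    ∃ g ∈ (tD4 φ).G1, ∃ c', c' ≠ 0 ∧ φ c' = c' ∧ g * X 22 c * g⁻¹ = X 23 c' := by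
  obtain ⟨c', h1, h2⟩ := conj_w φ j1 (r := 22) (s := 23) (by norm_num) (by norm_num) tab8.2.1 hc
  refine ⟨_, (tD4 φ).nj_G1 j1, c', h1, ?_, h2⟩
  apply fix_of_mem φ
  rw [← h2]
  exact mul_mem (mul_mem ((tD4 φ).nj_G1 j1) (X22_mem φ hφ)) (inv_mem ((tD4 φ).nj_G1 j1))

theorem conj14 {c : K} (hc : c ≠ 0) (hφ : φ c = c) :
    ∃ g ∈ (tD4 φ).G1, ∃ c', c' ≠ 0 ∧ φ c' = c' ∧ g * X 14 c * g⁻¹ = X 23 c' := by
  obtain ⟨c1, h1, h2⟩ := conj_w φ j0 (r := 14) (s := 22) (by norm_num) (by norm_num) tab8.1 hc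
  obtain ⟨c', h3, h4⟩ := conj_w φ j1 (r := 22) (s := 23) (by norm_num) (by norm_num) tab8.2.1 h1
  have h5 : (tD4 φ).nj j1 * (tD4 φ).nj j0 * X 14 c * ((tD4 φ).nj j1 * (tD4 φ).nj j0)⁻¹ = X 23 c' := by
    rw [← h4, ← h2]; group
  have hg := mul_mem ((tD4 φ).nj_G1 j1) ((tD4 φ).nj_G1 j0)
  refine ⟨_, hg, c', h3, ?_, h5⟩
  apply fix_of_mem φ
  rw [← h5]
  exact mul_mem (mul_mem hg (X14_mem φ hφ)) (inv_mem hg)

/-- the elements of a short root subgroup -/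
noncomputable def aa (t : K) : ↥(chevD4.group K) := X 18 t * (X 13 (φ t) * X 12 (φ (φ t)))

theorem aa_mem (h3 : ∀ t, φ (φ (φ t)) = t) (t : K) : aa φ t ∈ (tD4 φ).G1 := by
  have h := TwData.X'_le_G1 _ (((bdD4 goodD4 dD4 dG2 φ).mem_X'_p j0 _).2 ⟨t, fx0 goodD4 dD4 dG2 φ h3 t, rfl⟩)
  rw [xbp0] at h
  exact h

theorem cj {r s a : ℕ} {ε : ℤ} (h : r < 24 ∧ s < 24 ∧ s ≠ r ∧ s ≠ chevD4.neg r)
    (h' : chevD4.commTerms r s = [(a, ε, 1, 1)]) (t u : K) :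
    (X r t)⁻¹ * X s u * X r t = X s u * X a ((ε : K) * -t * u) := by
  rw [mul_assoc, X_comm' h h', ← mul_assoc, ← mul_assoc, inv_mul_cancel, one_mul]

theorem cj' {r s a : ℕ} {ε : ℤ} (h : r < 24 ∧ s < 24 ∧ s ≠ r ∧ s ≠ chevD4.neg r)
    (h' : chevD4.commTerms r s = [(a, ε, 1, 1)]) {t u v : K} (hv : (ε : K) * -t * u = v) :
    (X r t)⁻¹ * X s u * X r t = X s u * X a v := by
  rw [cj h h', hv]

theorem conj_aa (h3 : ∀ t, φ (φ (φ t)) = t) (t : K) {u : K} (hu : φ u = u) :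
    (aa φ t)⁻¹ * X 14 u * aa φ t =
      ee φ u (u * t) (u * (φ t * φ (φ t))) (u * (t * (φ t * φ (φ t)))) * X 23 (u * u * (t * (φ t * φ (φ t)))) := by
  obtain ⟨a1, a2, a3, a4⟩ := tab3
  obtain ⟨b1, b2, b3, b4⟩ := tab3'
  have g : ∀ a b c : ↥(chevD4.group K), c⁻¹ * (a * b) * c = (c⁻¹ * a * c) * (c⁻¹ * b * c) := by
    intro a b c; group
  have s1 : (X 18 t)⁻¹ * X 14 u * X 18 t = X 14 u * X 19 (u * t) :=
    cj' (tab4 (18, 14) (by simp)) a1 (by push_cast; ring)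
  have s2 : (X 13 (φ t))⁻¹ * X 14 u * X 13 (φ t) = X 14 u * X 16 (-(u * φ t)) :=
    cj' (tab4 (13, 14) (by simp)) a2 (by push_cast; ring)
  have s3 : (X 13 (φ t))⁻¹ * X 19 (u * t) * X 13 (φ t) = X 19 (u * t) * X 21 (-(u * (t * φ t))) :=
    cj' (tab4 (13, 19) (by simp)) a3 (by push_cast; ring)
  have s4 : (X 12 (φ (φ t)))⁻¹ * X 14 u * X 12 (φ (φ t)) = X 14 u * X 15 (-(u * φ (φ t))) :=
    cj' (tab4 (12, 14) (by simp)) a4 (by push_cast; ring)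
  have s5 : (X 12 (φ (φ t)))⁻¹ * X 16 (-(u * φ t)) * X 12 (φ (φ t)) =
      X 16 (-(u * φ t)) * X 17 (u * (φ t * φ (φ t))) :=
    cj' (tab4 (12, 16) (by simp)) b1 (by push_cast; ring)
  have s6 : (X 12 (φ (φ t)))⁻¹ * X 19 (u * t) * X 12 (φ (φ t)) =
      X 19 (u * t) * X 20 (-(u * (φ (φ t) * t))) :=
    cj' (tab4 (12, 19) (by simp)) b2 (by push_cast; ring)
  have s7 : (X 12 (φ (φ t)))⁻¹ * X 21 (-(u * (t * φ t))) * X 12 (φ (φ t)) =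
      X 21 (-(u * (t * φ t))) * X 22 (u * (t * (φ t * φ (φ t)))) :=
    cj' (tab4 (12, 21) (by simp)) b3 (by push_cast; ring)
  have e1 : (aa φ t)⁻¹ * X 14 u * aa φ t = (X 12 (φ (φ t)))⁻¹ * ((X 13 (φ t))⁻¹ * ((X 18 t)⁻¹ * X 14 u * X 18 t) *
      X 13 (φ t)) * X 12 (φ (φ t)) := by unfold aa; group
  have hsw : X 17 (u * (φ t * φ (φ t))) * X 19 (u * t) = X 19 (u * t) * X 17 (u * (φ t * φ (φ t))) *
      X 23 (u * u * (t * (φ t * φ (φ t)))) := by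
    rw [X_comm' (K := K) (tab4 (19, 17) (by simp)) b4]
    congr 2
    push_cast; ring
  have hc : ∀ r ∈ L8, ∀ t u : K, X 23 t * X r u = X r u * X 23 t := fun r hr t u => X_center hr t u
  have c20 := hc 20 (by simp [L8])
  have c21 := hc 21 (by simp [L8])
  have c22 := hc 22 (by simp [L8])
  have hr : ∀ {a b c d : ↥(chevD4.group K)}, a * b = c * d → ∀ y, a * (b * y) = c * (d * y) := by
    intro a b c d h y; rw [← mul_assoc, h, mul_assoc]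
  have hr' : ∀ {a b c : ↥(chevD4.group K)}, a * b = c → ∀ y, a * (b * y) = c * y := by
    intro a b c h y; rw [← mul_assoc, h]
  have m1 : φ (φ (u * t)) = u * φ (φ t) := by rw [map_mul, map_mul, hu, hu]
  have m2 : φ (u * t) = u * φ t := by rw [map_mul, hu]
  have m3 : φ (u * (φ t * φ (φ t))) = u * (φ (φ t) * t) := by rw [map_mul, map_mul, hu, h3]
  have m4 : φ (u * (φ (φ t) * t)) = u * (t * φ t) := by rw [map_mul, map_mul, hu, h3]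
  have t2 : (X 13 (φ t))⁻¹ * (X 14 u * X 19 (u * t)) * X 13 (φ t) =
      (X 14 u * X 16 (-(u * φ t))) * (X 19 (u * t) * X 21 (-(u * (t * φ t)))) := by rw [g, s2, s3]
  have t3 : (X 12 (φ (φ t)))⁻¹ * ((X 14 u * X 16 (-(u * φ t))) * (X 19 (u * t) * X 21 (-(u * (t * φ t))))) *
      X 12 (φ (φ t)) = ((X 14 u * X 15 (-(u * φ (φ t)))) * (X 16 (-(u * φ t)) * X 17 (u * (φ t * φ (φ t))))) *
      ((X 19 (u * t) * X 20 (-(u * (φ (φ t) * t)))) *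
        (X 21 (-(u * (t * φ t))) * X 22 (u * (t * (φ t * φ (φ t)))))) := by
    rw [g, g, g, s4, s5, s6, s7]
  rw [e1, s1, t2, t3, ee_eq, m1, m2, m3, m4]
  simp only [mul_assoc]
  rw [hr' hsw]
  simp only [mul_assoc]
  rw [hr (c20 _ _), hr (c21 _ _), c22]

end Cfsg.Agent.LSD
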