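import Cfsg.Agent.LSD.CW
import Cfsg.Agent.Tw3.PerfD4

/-!
The fixed field, the trace and the highest weight vectors of the triality module.
-/

set_option autoImplicit false
set_option linter.unusedSectionVars false
set_option linter.unusedSimpArgs false

namespace Cfsg.Agent.LSD

open Module

variable {K : Type*} [Field K]

/-- the fixed field -/
def kk (φ : K ≃+* K) : Subfield K where
  carrier := {x | φ x = x}
  mul_mem' := by intro a b ha hb; change φ (a * b) = a * b; rw [map_mul, show φ a = a from ha, show φ b = b from hb]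
  one_mem' := map_one φ
  add_mem' := by intro a b ha hb; change φ (a + b) = a + b; rw [map_add, show φ a = a from ha, show φ b = b from hb]
  zero_mem' := map_zero φ
  neg_mem' := by intro a ha; change φ (-a) = -a; rw [map_neg, show φ a = a from ha]
  inv_mem' := by intro a ha; change φ (a⁻¹) = a⁻¹; rw [map_inv₀, show φ a = a from ha]

variable {φ : K ≃+* K}

theorem kk_fix (a : kk φ) : φ (a : K) = a := a.2

theorem mem_kk {x : K} : x ∈ kk φ ↔ φ x = x := Iff.rfl

variable (h3 : ∀ t, φ (φ (φ t)) = t)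

/-- the trace -/
def trk (x : K) : kk φ := ⟨x + φ x + φ (φ x), by
  rw [mem_kk, map_add, map_add, h3]; ring⟩

theorem coe_trk (x : K) : ((trk h3 x : kk φ) : K) = x + φ x + φ (φ x) := rfl

theorem trk_add (x y : K) : trk h3 (x + y) = trk h3 x + trk h3 y := by
  apply Subtype.ext
  rw [Subfield.coe_add, coe_trk, coe_trk, coe_trk]
  simp only [map_add]; ring

theorem trk_smul (a : kk φ) (x : K) : trk h3 ((a : K) * x) = a * trk h3 x := by
  apply Subtype.ext
  rw [Subfield.coe_mul, coe_trk, coe_trk]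
  simp only [map_mul, kk_fix]; ring

theorem trk_neg (x : K) : trk h3 (-x) = - trk h3 x := by
  apply Subtype.ext
  rw [Subfield.coe_neg, coe_trk, coe_trk]
  simp only [map_neg]; ring

/-- the norm -/
def nk (x : K) : kk φ := ⟨x * (φ x * φ (φ x)), by
  rw [mem_kk, map_mul, map_mul, h3]; ring⟩

theorem coe_nk (x : K) : ((nk h3 x : kk φ) : K) = x * (φ x * φ (φ x)) := rfl

/-- the module -/
abbrev AA (φ : K ≃+* K) : Type _ := kk φ × K × K × kk φ

/-- the highest weight vectors -/
def gam : Option K → AA φ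
  | none => (0, 0, 0, 1)
  | some t => (1, t, φ t * φ (φ t), nk h3 t)

theorem gam_ne (i : Option K) : gam h3 i ≠ 0 := by
  rcases i with _ | t
  · intro h
    have := congrArg (fun z : AA φ => z.2.2.2) h
    exact one_ne_zero this
  · intro h
    have := congrArg (fun z : AA φ => z.1) h
    exact one_ne_zero this

/-- the cubic map, polarised -/
def G3 (c : K) (x y z : K × K) : AA φ :=
  (trk h3 (c * (x.1 * (φ y.1 * φ (φ z.1)))), x.2 * (φ y.1 * φ (φ z.1)), x.1 * (φ y.2 * φ (φ z.2)),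
    trk h3 (c * (x.2 * (φ y.2 * φ (φ z.2)))))

theorem smul_def (a : kk φ) (x : K) : a • x = (a : K) * x := rfl

theorem G3_1 (c : K) (y z : K × K) : IsLinearMap (kk φ) fun x => G3 h3 c x y z := by
  constructor
  · intro p p'
    refine Prod.ext ?_ (Prod.ext ?_ (Prod.ext ?_ ?_)) <;> simp only [G3, Prod.fst_add, Prod.snd_add, map_add]
    · rw [← trk_add]; congr 1; ring
    · ring
    · ring
    · rw [← trk_add]; congr 1; ring
  · intro a p
    refine Prod.ext ?_ (Prod.ext ?_ (Prod.ext ?_ ?_)) <;>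
      simp only [G3, Prod.smul_fst, Prod.smul_snd, smul_def, smul_eq_mul, map_mul, kk_fix]
    · rw [← trk_smul]; congr 1; ring
    · ring
    · ring
    · rw [← trk_smul]; congr 1; ring

theorem G3_2 (c : K) (x z : K × K) : IsLinearMap (kk φ) fun y => G3 h3 c x y z := by
  constructor
  · intro p p'
    refine Prod.ext ?_ (Prod.ext ?_ (Prod.ext ?_ ?_)) <;> simp only [G3, Prod.fst_add, Prod.snd_add, map_add]
    · rw [← trk_add]; congr 1; ring
    · ring
    · ring
    · rw [← trk_add]; congr 1; ring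
  · intro a p
    refine Prod.ext ?_ (Prod.ext ?_ (Prod.ext ?_ ?_)) <;>
      simp only [G3, Prod.smul_fst, Prod.smul_snd, smul_def, smul_eq_mul, map_mul, kk_fix]
    · rw [← trk_smul]; congr 1; ring
    · ring
    · ring
    · rw [← trk_smul]; congr 1; ring

theorem G3_3 (c : K) (x y : K × K) : IsLinearMap (kk φ) fun z => G3 h3 c x y z := by
  constructor
  · intro p p'
    refine Prod.ext ?_ (Prod.ext ?_ (Prod.ext ?_ ?_)) <;> simp only [G3, Prod.fst_add, Prod.snd_add, map_add]
    · rw [← trk_add]; congr 1; ring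
    · ring
    · ring
    · rw [← trk_add]; congr 1; ring
  · intro a p
    refine Prod.ext ?_ (Prod.ext ?_ (Prod.ext ?_ ?_)) <;>
      simp only [G3, Prod.smul_fst, Prod.smul_snd, smul_def, smul_eq_mul, map_mul, kk_fix]
    · rw [← trk_smul]; congr 1; ring
    · ring
    · ring
    · rw [← trk_smul]; congr 1; ring

theorem trk_mul_nk {c : K} (hc : trk h3 c = 1) (x : K) : trk h3 (c * (x * (φ x * φ (φ x)))) = nk h3 x := by
  have h : c * (x * (φ x * φ (φ x))) = ((nk h3 x : kk φ) : K) * c := by rw [coe_nk]; ring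
  rw [h, trk_smul, hc, mul_one]

theorem nk_ne {x : K} (hx : x ≠ 0) : nk h3 x ≠ 0 := by
  intro h
  have h1 := congrArg (fun a : kk φ => (a : K)) h
  have h2 : x * (φ x * φ (φ x)) = 0 := h1
  have h4 : φ x ≠ 0 := (map_ne_zero φ).2 hx
  have h5 : φ (φ x) ≠ 0 := (map_ne_zero φ).2 h4
  exact mul_ne_zero hx (mul_ne_zero h4 h5) h2

theorem G3_diag {c : K} (hc : trk h3 c = 1) (w : K × K) (hw : w ≠ 0) :
    ∃ i, ∃ a : kk φ, a ≠ 0 ∧ G3 h3 c w w w = a • gam h3 i := by
  obtain ⟨x, y⟩ := w
  by_cases hx : x = 0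
  · subst hx
    have hy : y ≠ 0 := by rintro rfl; exact hw rfl
    refine ⟨none, nk h3 y, nk_ne h3 hy, ?_⟩
    refine Prod.ext ?_ (Prod.ext ?_ (Prod.ext ?_ ?_)) <;>
      simp only [G3, gam, Prod.smul_fst, Prod.smul_snd, smul_def, smul_eq_mul, trk_mul_nk h3 hc, mul_zero, mul_one,
        map_zero, zero_mul]
    · apply Subtype.ext; rw [coe_trk]; simp
  · refine ⟨some (y * x⁻¹), nk h3 x, nk_ne h3 hx, ?_⟩
    have h4 : φ x ≠ 0 := (map_ne_zero φ).2 hx
    have h5 : φ (φ x) ≠ 0 := (map_ne_zero φ).2 h4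
    refine Prod.ext ?_ (Prod.ext ?_ (Prod.ext ?_ ?_)) <;>
      simp only [G3, gam, Prod.smul_fst, Prod.smul_snd, smul_def, smul_eq_mul, trk_mul_nk h3 hc, mul_one]
    · rw [coe_nk]; field_simp
    · rw [coe_nk]; simp only [map_mul, map_inv₀]; field_simp
    · apply Subtype.ext
      rw [Subfield.coe_mul, coe_nk, coe_nk, coe_nk]; simp only [map_mul, map_inv₀]; field_simp

theorem card_kk [Fintype K] {q : ℕ} (hq : IsPrimePow q) (hK : Fintype.card K = q ^ 3) (hφ : ∀ t : K, φ t = t ^ q) :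
    Nat.card (kk φ) = q := by
  rw [← Cfsg.Agent.Tw3.card_fix (K := K) hq.two_le hK]
  exact Nat.card_congr (Equiv.subtypeEquivRight fun c => by rw [mem_kk, hφ])

theorem hits [Fintype K] {q : ℕ} (hq : IsPrimePow q) (hK : Fintype.card K = q ^ 3) (hφ : ∀ t : K, φ t = t ^ q)
    (l : AA φ →ₗ[kk φ] kk φ) : ∃ i, l (gam h3 i) = 0 := by
  classical
  obtain ⟨c, hc⟩ := Cfsg.Agent.Tw3.tr_surj (K := K) hq.two_le hK hφ h3 (v := 1) (map_one φ)
  have hc1 : trk h3 c = 1 := Subtype.ext hc
  have hfin : FiniteDimensional (kk φ) K := inferInstance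
  have hrank : finrank (kk φ) K = 3 := by
    have h1 := Module.natCard_eq_pow_finrank (K := kk φ) (V := K)
    rw [card_kk hq hK hφ, Nat.card_eq_fintype_card, hK] at h1
    exact (Nat.pow_right_injective hq.two_le h1).symm
  have hrank2 : 3 < finrank (kk φ) (K × K) := by
    rw [Module.finrank_prod, hrank]; norm_num
  obtain ⟨w, hw, hT⟩ := exists_zero hrank2 (fun x y z => l (G3 h3 c x y z))
    (fun y z => ⟨fun a b => by rw [(G3_1 h3 c y z).map_add, map_add], fun a b => by rw [(G3_1 h3 c y z).map_smul, map_smul]⟩)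
    (fun y z => ⟨fun a b => by rw [(G3_2 h3 c y z).map_add, map_add], fun a b => by rw [(G3_2 h3 c y z).map_smul, map_smul]⟩)
    (fun y z => ⟨fun a b => by rw [(G3_3 h3 c y z).map_add, map_add], fun a b => by rw [(G3_3 h3 c y z).map_smul, map_smul]⟩)
  obtain ⟨i, a, ha, hi⟩ := G3_diag h3 hc1 w hw
  refine ⟨i, ?_⟩
  rw [hi, map_smul, smul_eq_mul] at hT
  exact (mul_eq_zero.1 hT).resolve_left ha

end Cfsg.Agent.LSD
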