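import Mathlib

/-!
Products of root elements modulo a central root subgroup.
-/

set_option autoImplicit false
set_option linter.unusedSectionVars false

namespace Cfsg.Agent.LSD

variable {G K : Type*} [Group G] [Field K] (X : ℕ → K → G) (z : ℕ) (c : ℕ → ℕ → ℤ)

/-- ordered product -/
def pl (L : List ℕ) (a : ℕ → K) : G := (L.map fun r => X r (a r)).prod

/-- the cocycle for moving one element -/
def dd (s : ℕ) (t : K) (L : List ℕ) (a : ℕ → K) : K := (L.map fun r => (c s r : K) * (t * a r)).sum

/-- the cocycle -/
def cc : List ℕ → (ℕ → K) → (ℕ → K) → K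
  | [], _, _ => 0
  | s :: L, a, b => dd c s (b s) L a + cc L a b

variable {X z c}

theorem pl_mul_X (hzadd : ∀ t u, X z (t + u) = X z t * X z u) {s : ℕ} {t : K} {L : List ℕ} {a : ℕ → K}
    (hz : ∀ r ∈ L, ∀ t u, X z t * X r u = X r u * X z t)
    (h : ∀ r ∈ L, ∀ t u, X r u * X s t = X s t * X r u * X z ((c s r : K) * (t * u))) :
    pl X L a * X s t = X s t * pl X L a * X z (dd c s t L a) := by
  have hz0 : X z 0 = 1 := by
    have := hzadd 0 0
    rw [add_zero] at this
    exact left_eq_mul.1 this
  induction L with
  | nil => simp [pl, dd, hz0]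
  | cons r L ih =>
    have ih' := ih (fun r hr => hz r (List.mem_cons_of_mem _ hr)) (fun r hr => h r (List.mem_cons_of_mem _ hr))
    have hzp : ∀ t, X z t * pl X L a = pl X L a * X z t := by
      intro t
      have : ∀ M : List ℕ, (∀ r ∈ M, ∀ t u, X z t * X r u = X r u * X z t) → X z t * pl X M a = pl X M a * X z t := by
        intro M
        induction M with
        | nil => intro _; simp [pl]
        | cons r M ihM =>
          intro hM
          have h1 : pl X (r :: M) a = X r (a r) * pl X M a := by simp [pl]
          rw [h1, ← mul_assoc, hM r List.mem_cons_self, mul_assoc, ihM fun r hr => hM r (List.mem_cons_of_mem _ hr),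
            mul_assoc]
      exact this L fun r hr => hz r (List.mem_cons_of_mem _ hr)
    have h1 : pl X (r :: L) a = X r (a r) * pl X L a := by simp [pl]
    have h2 : dd c s t (r :: L) a = (c s r : K) * (t * a r) + dd c s t L a := by simp [dd]
    rw [h1, mul_assoc, ih', ← mul_assoc, ← mul_assoc, h r List.mem_cons_self, h2, hzadd, mul_assoc (X s t * X r (a r)),
      hzp]
    simp only [mul_assoc]

theorem pl_mul_pl (hzadd : ∀ t u, X z (t + u) = X z t * X z u) {L : List ℕ} {a b : ℕ → K}
    (hadd : ∀ r ∈ L, ∀ t u, X r (t + u) = X r t * X r u)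
    (hz : ∀ r ∈ L, ∀ t u, X z t * X r u = X r u * X z t)
    (h : L.Pairwise fun s r => ∀ t u, X r u * X s t = X s t * X r u * X z ((c s r : K) * (t * u))) :
    pl X L a * pl X L b = pl X L (fun r => a r + b r) * X z (cc c L a b) := by
  have hz0 : X z 0 = 1 := by
    have := hzadd 0 0
    rw [add_zero] at this
    exact left_eq_mul.1 this
  induction L with
  | nil => simp [pl, cc, hz0]
  | cons s L ih =>
    rw [List.pairwise_cons] at h
    have ih' := ih (fun r hr => hadd r (List.mem_cons_of_mem _ hr)) (fun r hr => hz r (List.mem_cons_of_mem _ hr)) h.2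
    have hzp : ∀ t, X z t * pl X L b = pl X L b * X z t := by
      intro t
      have : ∀ M : List ℕ, (∀ r ∈ M, ∀ t u, X z t * X r u = X r u * X z t) → X z t * pl X M b = pl X M b * X z t := by
        intro M
        induction M with
        | nil => intro _; simp [pl]
        | cons r M ihM =>
          intro hM
          have h1 : pl X (r :: M) b = X r (b r) * pl X M b := by simp [pl]
          rw [h1, ← mul_assoc, hM r List.mem_cons_self, mul_assoc, ihM fun r hr => hM r (List.mem_cons_of_mem _ hr),
            mul_assoc]
      exact this L fun r hr => hz r (List.mem_cons_of_mem _ hr)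
    have h1 : ∀ a : ℕ → K, pl X (s :: L) a = X s (a s) * pl X L a := by intro a; simp [pl]
    have h2 : cc c (s :: L) a b = dd c s (b s) L a + cc c L a b := rfl
    rw [h1, h1, h1, hadd s List.mem_cons_self, h2, add_comm (dd c s (b s) L a), hzadd]
    have h3 := pl_mul_X (a := a) (t := b s) hzadd (fun r hr => hz r (List.mem_cons_of_mem _ hr)) h.1
    calc X s (a s) * pl X L a * (X s (b s) * pl X L b)
        = X s (a s) * (pl X L a * X s (b s)) * pl X L b := by simp only [mul_assoc]
      _ = X s (a s) * X s (b s) * pl X L a * (X z (dd c s (b s) L a) * pl X L b) := by rw [h3]; simp only [mul_assoc]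
      _ = X s (a s) * X s (b s) * (pl X L a * pl X L b) * X z (dd c s (b s) L a) := by rw [hzp]; simp only [mul_assoc]
      _ = _ := by rw [ih']; simp only [mul_assoc]

end Cfsg.Agent.LSD
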