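import Cfsg.Agent.LSD.Abs
import Cfsg.Agent.LSD.Conc
import Cfsg.Agent.LSD.Fld
import Cfsg.Agent.LSU.Irr
import Cfsg.Agent.Char.Degree

/-!
The minimal degree of a nontrivial complex representation of the triality twisted group.
-/

set_option autoImplicit false
set_option linter.unusedSectionVars false
set_option maxRecDepth 100000

namespace Cfsg.Agent.LSD

open Module Cfsg.Agent.Tw3 Cfsg.Lie Cfsg.Agent.ChevGrp Cfsg.Agent.ChevGrp.DData

section arith

theorem not_dvd {q : ℕ} (hq : 2 ≤ q) : ¬ (q ^ 4 + q ^ 3 + 1) ∣ q ^ 12 * (q ^ 2 - 1) * (q ^ 6 - 1) * (q ^ 8 + q ^ 4 + 1) := by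
  intro h
  have h1 : ((q : ℤ) ^ 4 + q ^ 3 + 1) ∣ (q : ℤ) ^ 12 * (q ^ 2 - 1) * (q ^ 6 - 1) * (q ^ 8 + q ^ 4 + 1) := by
    have h2 : 1 ≤ q ^ 2 := Nat.one_le_pow _ _ (by omega)
    have h3 : 1 ≤ q ^ 6 := Nat.one_le_pow _ _ (by omega)
    have := Int.natCast_dvd_natCast.2 h
    push_cast [Nat.cast_sub h2, Nat.cast_sub h3] at this
    exact this
  obtain ⟨x, hx⟩ : ∃ x : ℤ, x = (q : ℤ) := ⟨_, rfl⟩
  rw [← hx] at h1
  obtain ⟨n, hn⟩ : ∃ n : ℤ, n = x ^ 4 + x ^ 3 + 1 := ⟨_, rfl⟩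
  rw [← hn] at h1
  have c1 : IsCoprime n x := ⟨1, -(x ^ 3 + x ^ 2), by rw [hn]; ring⟩
  have c2 : IsCoprime n (x + 1) := ⟨1, -x ^ 3, by rw [hn]; ring⟩
  have c3 : IsCoprime n (x ^ 2 - x + 1) := by
    -- n ≡ -x, and x is coprime
    have e : n = (x ^ 2 + 2 * x + 1) * (x ^ 2 - x + 1) + (-x) := by rw [hn]; ring
    have c : IsCoprime (x ^ 2 - x + 1) (-x) := ⟨1, x - 1, by ring⟩
    rw [e]
    exact (IsCoprime.add_mul_left_left c.symm (x ^ 2 + 2 * x + 1)).symm.symm |> fun h => by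
      have : (x ^ 2 + 2 * x + 1) * (x ^ 2 - x + 1) + -x = -x + (x ^ 2 - x + 1) * (x ^ 2 + 2 * x + 1) := by ring
      rw [this]; exact h
  have c4 : IsCoprime n (x ^ 4 - x ^ 2 + 1) := by
    have e : n = (x ^ 4 - x ^ 2 + 1) + x ^ 2 * (x + 1) := by rw [hn]; ring
    have d1 : IsCoprime (x ^ 4 - x ^ 2 + 1) x := ⟨1, -(x ^ 3 - x), by ring⟩
    have d2 : IsCoprime (x ^ 4 - x ^ 2 + 1) (x + 1) := ⟨1, -(x ^ 3 - x ^ 2), by ring⟩
    have d3 : IsCoprime (x ^ 4 - x ^ 2 + 1) (x ^ 2 * (x + 1)) := (d1.pow_right).mul_right d2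
    rw [e]
    have := IsCoprime.add_mul_left_left d3.symm 1
    rw [mul_one] at this
    rw [add_comm]; exact this
  have e1 : x ^ 12 * (x ^ 2 - 1) * (x ^ 6 - 1) * (x ^ 8 + x ^ 4 + 1) =
      (x ^ 12 * (x + 1) ^ 2 * (x ^ 2 - x + 1) ^ 2 * (x ^ 4 - x ^ 2 + 1)) * (x ^ 3 - 1) ^ 2 := by ring
  rw [e1] at h1
  have c5 : IsCoprime n (x ^ 12 * (x + 1) ^ 2 * (x ^ 2 - x + 1) ^ 2 * (x ^ 4 - x ^ 2 + 1)) :=
    ((c1.pow_right.mul_right c2.pow_right).mul_right c3.pow_right).mul_right c4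
  have h2 : n ∣ (x ^ 3 - 1) ^ 2 := c5.dvd_of_dvd_mul_left h1
  have h3 : n ∣ 81 := by
    have e2 : (9 : ℤ) = (x ^ 2 - 2 * x + 4) * n - ((x + 1) * (x ^ 2 - 2 * x + 4) + 1) * (x ^ 3 - 1) := by
      rw [hn]; ring
    have e3 : (81 : ℤ) = n * ((x ^ 2 - 2 * x + 4) ^ 2 * n -
        2 * (x ^ 2 - 2 * x + 4) * ((x + 1) * (x ^ 2 - 2 * x + 4) + 1) * (x ^ 3 - 1)) +
        ((x + 1) * (x ^ 2 - 2 * x + 4) + 1) ^ 2 * (x ^ 3 - 1) ^ 2 := by
      have : (81 : ℤ) = 9 * 9 := by norm_num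
      rw [this]
      nth_rewrite 1 [e2]
      nth_rewrite 1 [e2]
      ring
    rw [e3]
    exact dvd_add (dvd_mul_right _ _) (Dvd.dvd.mul_left h2 _)
  have h4 : n ≤ 81 := Int.le_of_dvd (by norm_num) h3
  have h5 : q ≤ 2 := by
    by_contra hcon
    have h6 : (3 : ℤ) ≤ x := by rw [hx]; exact_mod_cast (by omega : 3 ≤ q)
    have h7 : (3 : ℤ) ^ 4 ≤ x ^ 4 := pow_le_pow_left₀ (by norm_num) h6 4
    have h8 : (3 : ℤ) ^ 3 ≤ x ^ 3 := pow_le_pow_left₀ (by norm_num) h6 3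
    rw [hn] at h4
    linarith
  have h6 : q = 2 := by omega
  have h7 : n = 25 := by rw [hn, hx, h6]; norm_num
  rw [h7] at h3
  revert h3; decide

end arith

variable {K : Type*} [Field K] [Fintype K] {q : ℕ}

/-- the twisted group in the Chevalley group -/
noncomputable abbrev GT (φ : K ≃+* K) : Subgroup ↥(chevD4.group K) := (tD4 φ).G1

/-- the Heisenberg data of the triality group -/
noncomputable def heis {φ : K ≃+* K} (h3 : ∀ t, φ (φ (φ t)) = t) (hq : IsPrimePow q) (hK : Fintype.card K = q ^ 3)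
    (hφ : ∀ t : K, φ t = t ^ q) : Heis ↥(GT φ) (kk φ) (AA φ) (K × kk φ) (Option K) where
  x c := ⟨X 23 (c : K), X23_mem φ c.2⟩
  e z := ⟨ee φ (z.1 : K) z.2.1 z.2.2.1 (z.2.2.2 : K), ee_mem φ h3 _ _ z.1.2 z.2.2.2.2⟩
  β z z' := trk h3 (z'.2.1 * z.2.2.1) - z'.1 * z.2.2.2
  b i := (0, 0, i.1, i.2)
  γ := gam h3
  x_add s t := Subtype.ext (X_add (by norm_num) _ _)
  x_e t z := Subtype.ext (ee_center φ _ _ _ _ _)
  e_mul z z' := Subtype.ext (ee_mul φ _ _ _ _ _ _ _ _)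
  x_conj c hc := by
    have hc' : (c : K) ≠ 0 := fun h => hc (Subtype.ext h)
    obtain ⟨g, hg, h⟩ := conj_torus φ hc' c.2
    exact ⟨⟨g, hg⟩, Subtype.ext h⟩
  nondeg z hz t := by
    obtain ⟨u, s, v, w⟩ := z
    by_cases hu : u = 0
    · by_cases hs : s = 0
      · by_cases hv : v = 0
        · have hw : w ≠ 0 := by
            rintro rfl; exact hz (by rw [hu, hs, hv]; rfl)
          refine ⟨(t * w⁻¹, 0, 0, 0), ?_⟩
          apply Subtype.ext
          simp [hu, hs, hv, coe_trk, hw]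
        · obtain ⟨a, ha⟩ := tr_surj (K := K) hq.two_le hK hφ h3 (v := -(t : K)) (by rw [map_neg, kk_fix])
          refine ⟨(0, a * v⁻¹, 0, 0), ?_⟩
          have h1 : a * v⁻¹ * v = a := by rw [mul_assoc, inv_mul_cancel₀ hv, mul_one]
          have h2 : trk h3 a = -t := Subtype.ext ha
          simp only [mul_zero, zero_mul, h1, h2]
          apply Subtype.ext
          simp [coe_trk]
      · obtain ⟨a, ha⟩ := tr_surj (K := K) hq.two_le hK hφ h3 (v := (t : K)) (kk_fix t)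
        refine ⟨(0, 0, a * s⁻¹, 0), ?_⟩
        have h1 : s * (a * s⁻¹) = a := by rw [mul_comm, mul_assoc, inv_mul_cancel₀ hs, mul_one]
        have h2 : trk h3 a = t := Subtype.ext ha
        simp only [mul_zero, zero_mul, h1, h2]
        apply Subtype.ext
        simp [coe_trk]
    · refine ⟨(0, 0, 0, -(t * u⁻¹)), ?_⟩
      apply Subtype.ext
      have hu' : (u : K) ≠ 0 := fun h => hu (Subtype.ext h)
      simp [coe_trk]
      field_simp
  b_add i j := by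
    obtain ⟨a, b⟩ := i
    obtain ⟨c, d⟩ := j
    simp
  b_ne i hi := by
    obtain ⟨a, b⟩ := i
    intro h
    apply hi
    have h1 := congrArg (fun z : AA φ => z.2.2.1) h
    have h2 := congrArg (fun z : AA φ => z.2.2.2) h
    exact Prod.ext h1 h2
  b_beta i j := by
    apply Subtype.ext
    simp [coe_trk]
  γ_ne := gam_ne h3
  γ_conj i c hc := by
    have hc' : (c : K) ≠ 0 := fun h => hc (Subtype.ext h)
    rcases i with _ | t
    · obtain ⟨g, hg, c', hc1, hc2, h⟩ := conj22 φ hc' c.2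
      refine ⟨⟨g, hg⟩, 0, ⟨c', hc2⟩, fun h => hc1 (congrArg Subtype.val h), ?_⟩
      apply Subtype.ext
      have h1 : ee φ (((c • gam h3 none : AA φ).1 : kk φ) : K) (c • gam h3 none : AA φ).2.1 (c • gam h3 none : AA φ).2.2.1
          (((c • gam h3 none : AA φ).2.2.2 : kk φ) : K) = X 22 (c : K) := by
        have e1 : (((c • gam h3 none : AA φ).1 : kk φ) : K) = 0 := by simp [gam]
        have e2 : (c • gam h3 none : AA φ).2.1 = 0 := by simp [gam]
        have e3 : (c • gam h3 none : AA φ).2.2.1 = 0 := by simp [gam]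
        have e4 : (((c • gam h3 none : AA φ).2.2.2 : kk φ) : K) = c := by simp [gam]
        rw [e1, e2, e3, e4, ee_eq]
        simp only [map_zero, neg_zero]
        rw [X_zero (by norm_num), X_zero (by norm_num), X_zero (by norm_num), X_zero (by norm_num), X_zero (by norm_num),
          X_zero (by norm_num), X_zero (by norm_num)]
        simp only [one_mul]
      change g * (ee φ (((c • gam h3 none : AA φ).1 : kk φ) : K) (c • gam h3 none : AA φ).2.1
        (c • gam h3 none : AA φ).2.2.1 (((c • gam h3 none : AA φ).2.2.2 : kk φ) : K) * X 23 (((0 : kk φ)) : K)) * g⁻¹ =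
        X 23 c'
      rw [h1, Subfield.coe_zero, X_zero (by norm_num), mul_one]
      exact h
    · obtain ⟨g, hg, c', hc1, hc2, h⟩ := conj14 φ hc' c.2
      refine ⟨⟨g, hg⟩ * ⟨aa φ t, aa_mem φ h3 t⟩, c * c * nk h3 t, ⟨c', hc2⟩, fun h => hc1 (congrArg Subtype.val h), ?_⟩
      apply Subtype.ext
      have h1 := conj_aa φ h3 t (u := (c : K)) c.2
      change (g * aa φ t) * (ee φ ((c • (1 : kk φ) : kk φ) : K) (c • t) (c • (φ t * φ (φ t)))
        ((c • nk h3 t : kk φ) : K) * X 23 (((c * c * nk h3 t : kk φ)) : K)) * (g * aa φ t)⁻¹ = X 23 c'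
      have e1 : ((c • (1 : kk φ) : kk φ) : K) = c := by simp
      have e4 : ((c • nk h3 t : kk φ) : K) = c * (t * (φ t * φ (φ t))) := rfl
      have e5 : ((c * c * nk h3 t : kk φ) : K) = c * c * (t * (φ t * φ (φ t))) := rfl
      rw [e1, e4, e5, smul_def, smul_def, ← h1, ← h]
      group
  hits := hits h3 hq hK hφ

theorem bound (hq : IsPrimePow q) (hK : Fintype.card K = q ^ 3) {k : ℕ}
    (ρ : Representation ℂ ↥(twistedD4 K q) (Fin k → ℂ)) (hirr : ρ.IsIrreducible) (hk : 2 ≤ k) :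
    q * (q ^ 4 - q ^ 2 + 1) ≤ k := by
  classical
  have hfinK : Finite K := inferInstance
  obtain ⟨φ, hφ, h3⟩ := frob3 hq hK
  have hG := hG_D4 φ hφ h3
  let e : ↥(GT φ) ≃* ↥(twistedD4 K q) := (MulEquiv.subgroupCongr hG).trans (Subgroup.subgroupOfEquivOfLe hle_D4)
  let ρ' : Representation ℂ ↥(GT φ) (Fin k → ℂ) := ρ.comp e.toMonoidHom
  let H := heis h3 hq hK hφ
  have hsimp := (simp_D4 hq hK).1
  obtain ⟨g, v, hgv⟩ := Cfsg.Agent.LSU.exists_ne_of_irr ρ hirr hk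
  have hx : ∃ c, ρ' (H.x c) ≠ 1 := by
    refine ⟨1, fun h => ?_⟩
    have hker : e (H.x 1) ∈ (MonoidHom.ker ρ) := h
    rcases Subgroup.Normal.eq_bot_or_eq_top (H := MonoidHom.ker ρ) inferInstance with h1 | h1
    · rw [h1, Subgroup.mem_bot] at hker
      have h2 : H.x 1 = 1 := e.injective (by rw [hker, map_one])
      have h4 : X 23 (1 : K) = 1 := congrArg Subtype.val h2
      exact one_ne_zero ((amb goodD4 dD4 K).x_inj (⟨23, by decide⟩ : Fin chevD4.nroots) (1 : K) h4)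
    · have h2 : g ∈ MonoidHom.ker ρ := by rw [h1]; trivial
      have h4 : ρ g = 1 := h2
      exact hgv (by rw [h4]; rfl)
  have : Fintype (kk φ) := Fintype.ofFinite _
  have hkk : Fintype.card (kk φ) = q := by rw [← Nat.card_eq_fintype_card, card_kk hq hK hφ]
  have hψ : ∃ ψ : AddChar (kk φ) ℂ, ψ ≠ 0 := by
    have : Nontrivial (AddChar (kk φ) ℂ) := by
      have h1 : Fintype.card (AddChar (kk φ) ℂ) = q := by rw [AddChar.card_eq, hkk]
      rw [← Fintype.one_lt_card_iff_nontrivial, h1]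
      exact hq.one_lt
    exact exists_ne 0
  have hB : Fintype.card (K × kk φ) = q ^ 4 := by
    rw [Fintype.card_prod, hK, hkk]; ring
  have hι : Fintype.card (Option K) = q ^ 3 + 1 := by rw [Fintype.card_option, hK]
  have hmain := H.main ρ' hψ hkk hB hι hx
  rw [Module.finrank_fin_fun] at hmain
  have hq2 := hq.two_le
  obtain ⟨r, rfl⟩ : ∃ r, q = r + 1 := ⟨q - 1, by omega⟩
  by_contra hcon
  push Not at hcon
  have hle : (r + 1) ^ 2 ≤ (r + 1) ^ 4 := Nat.pow_le_pow_right (by omega) (by norm_num)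
  have harith : (r + 1) * ((r + 1) ^ 4 - (r + 1) ^ 2 + 1) = r * ((r + 1) ^ 4 + (r + 1) ^ 3 + 1) + 1 := by
    obtain ⟨d, hd⟩ := Nat.exists_eq_add_of_le hle
    rw [hd, Nat.add_sub_cancel_left]
    have : (r + 1) ^ 2 * (r + 1) ^ 2 = (r + 1) ^ 2 + d := by rw [← hd]; ring
    have h2 : (r + 1) ^ 4 = (r + 1) ^ 2 + d := hd
    zify at this h2 ⊢
    nlinarith
  rw [Nat.add_sub_cancel] at hmain
  have hk' : k = r * ((r + 1) ^ 4 + (r + 1) ^ 3 + 1) := by omega
  have hfin : Finite ↥(twistedD4 K (r + 1)) := inferInstance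
  have hdvd := Cfsg.Agent.Char.finrank_dvd_card ρ
  rw [Module.finrank_fin_fun, card_D4 hq hK, hk'] at hdvd
  exact not_dvd hq2 ((dvd_mul_left _ _).trans hdvd)

end Cfsg.Agent.LSD
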